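import Cfsg.Agent.Lib.Char.PairVanish.Orbits

/-!
Three irreducible characters of a 4-transitive group.
-/

set_option autoImplicit false
set_option linter.unusedSectionVars false

namespace CfsgLib.Char.PairVanish

open MulAction Cfsg

universe u v w

variable {G : Type u} [Group G] [Fintype G]

theorem isIrr_of_norm_le_one {χ : G → ℂ} (h : IsGeneralizedCharacter G χ) {N : ℤ}
    (hN : classInner χ χ = (N : ℂ)) (hN1 : N ≤ 1) {d : ℝ} (hd : χ 1 = (d : ℂ)) (hd0 : 0 < d) :
    IsIrrCharacter G χ := by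
  classical
  have := Fintype.ofFinite (IrrCharacter G)
  obtain ⟨m, -, he, hs⟩ := generalized_expand h
  have e : N = ∑ ψ, m ψ ^ 2 := by exact_mod_cast hN.symm.trans hs
  have h0 : 0 ≤ N := e ▸ Finset.sum_nonneg fun i _ => sq_nonneg _
  have hne : N ≠ 0 := fun hc => by
    rw [hc, Int.cast_zero] at hN
    have := congrFun (classInner_self_eq_zero hN) 1
    rw [hd, Pi.zero_apply, Complex.ofReal_eq_zero] at this
    linarith
  refine isIrr_of_norm_one h (by rw [hN, show N = 1 by omega]; simp) ?_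
  rw [hd, Complex.ofReal_re]
  exact hd0

variable {α : Type v} [Fintype α] [DecidableEq α] [MulAction G α]

/-- The number of orbits on pairs of points of two actions. -/
noncomputable abbrev orbs (X : Type w) [MulAction G X] : ℕ := Nat.card (orbitRel.Quotient G X)

theorem inner_comm (X : Type v) [MulAction G X] [Finite X] (Y : Type v) [MulAction G Y] [Finite Y] :
    classInner (permChar G Y) (permChar G X) = (orbs (G := G) (X × Y) : ℂ) := by
  rw [← classInner_conj, classInner_permChar, map_natCast]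

section bounds

variable (h4 : Four G α) (hn : 4 ≤ Fintype.card α)
include h4 hn

theorem exists_base : ∃ a b c d : α, [a, b, c, d].Nodup := by
  obtain ⟨e⟩ := Function.Embedding.nonempty_of_card_le (α := Fin 4) (β := α) (by simpa using hn)
  exact ⟨e 0, e 1, e 2, e 3, by simp⟩

theorem ff : orbs (G := G) (α × α) ≤ 2 := by
  obtain ⟨a, b, c, d, hnd⟩ := exists_base h4 hn
  simp only [List.nodup_cons, List.mem_cons, List.not_mem_nil, or_false, not_or] at hnd
  refine card_orbits_le ![(a, a), (a, b)] fun ⟨x, y⟩ => ?_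
  by_cases h : x = y
  · subst h
    obtain ⟨z, hz, -⟩ := exists_fourth hn x x x
    obtain ⟨g, h1, -⟩ := move2 h4 hn hz.symm hnd.1.1
    exact ⟨0, g, by simp [h1]⟩
  · obtain ⟨g, h1, h2⟩ := move2 h4 hn h hnd.1.1
    exact ⟨1, g, by simp [h1, h2]⟩

theorem sf_le : orbs (G := G) (S2 α × α) ≤ 2 := by
  obtain ⟨a, b, c, d, hnd⟩ := exists_base h4 hn
  simp only [List.nodup_cons, List.mem_cons, List.not_mem_nil, or_false, not_or] at hnd
  obtain ⟨⟨hab, hac, had⟩, ⟨hbc, hbd⟩, hcd, -⟩ := hnd
  refine card_orbits_le ![(mkS hab, a), (mkS hab, c)] fun ⟨s, x⟩ => ?_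
  obtain ⟨u, v, huv, rfl⟩ := exists_mkS s
  by_cases hu : x = u
  · obtain ⟨g, h1, h2⟩ := move2 h4 hn huv hab
    exact ⟨0, g, Prod.ext (smul_mkS h1 h2) (by rw [hu]; exact h1)⟩
  by_cases hv : x = v
  · obtain ⟨g, h1, h2⟩ := move2 h4 hn huv.symm hab
    exact ⟨0, g, Prod.ext (by show g • mkS huv = mkS hab; rw [mkS_comm huv]; exact smul_mkS h1 h2 huv.symm) (by rw [hv]; exact h1)⟩
  obtain ⟨g, h1, h2, h3⟩ := move3 h4 hn huv (Ne.symm hu) (Ne.symm hv) hab hac hbc
  exact ⟨1, g, Prod.ext (smul_mkS h1 h2) h3⟩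

theorem sf_ge : 2 ≤ orbs (G := G) (S2 α × α) := by
  obtain ⟨a, b, c, d, hnd⟩ := exists_base h4 hn
  simp only [List.nodup_cons, List.mem_cons, List.not_mem_nil, or_false, not_or] at hnd
  obtain ⟨⟨hab, hac, had⟩, ⟨hbc, hbd⟩, hcd, -⟩ := hnd
  refine le_card_orbits ![(mkS hab, a), (mkS hab, c)] (fun z => if z.2 ∈ (z.1 : Finset α) then 1 else 0) ?_ ?_
  · intro g z
    simp [Set.powersetCard.coe_smul]
  · intro i j e
    fin_cases i <;> fin_cases j <;> simp_all [mkS, Ne.symm hac, Ne.symm hbc]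

theorem ss_le : orbs (G := G) (S2 α × S2 α) ≤ 3 := by
  obtain ⟨a, b, c, d, hnd⟩ := exists_base h4 hn
  have hnd' := hnd
  simp only [List.nodup_cons, List.mem_cons, List.not_mem_nil, or_false, not_or] at hnd
  obtain ⟨⟨hab, hac, had⟩, ⟨hbc, hbd⟩, hcd, -⟩ := hnd
  refine card_orbits_le ![(mkS hab, mkS hab), (mkS hab, mkS hac), (mkS hab, mkS hcd)] fun ⟨s, t⟩ => ?_
  obtain ⟨u, v, huv, rfl⟩ := exists_mkS s
  obtain ⟨x, y, hxy, rfl⟩ := exists_mkS t
  -- a shared first element
  have key : ∀ (u v y : α) (huv : u ≠ v) (huy : u ≠ y), ∃ (i : Fin 3) (g : G),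
      g • (mkS huv, mkS huy) = ![(mkS hab, mkS hab), (mkS hab, mkS hac), (mkS hab, mkS hcd)] i := by
    intro u v y huv huy
    by_cases hvy : v = y
    · subst hvy
      obtain ⟨g, h1, h2⟩ := move2 h4 hn huv hab
      exact ⟨0, g, Prod.ext (smul_mkS h1 h2) (smul_mkS h1 h2)⟩
    · obtain ⟨g, h1, h2, h3⟩ := move3 h4 hn huv huy hvy hab hac hbc
      exact ⟨1, g, Prod.ext (smul_mkS h1 h2) (smul_mkS h1 h3)⟩
  by_cases h1 : u = x
  · subst h1; exact key u v y huv hxy
  by_cases h2 : u = y
  · subst h2; rw [mkS_comm hxy]; exact key u v x huv hxy.symm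
  by_cases h3 : v = x
  · subst h3; rw [mkS_comm huv]; exact key v u y huv.symm hxy
  by_cases h4' : v = y
  · subst h4'; rw [mkS_comm huv, mkS_comm hxy]; exact key v u x huv.symm hxy.symm
  obtain ⟨g, e1, e2, e3, e4⟩ := h4 u v x y a b c d (by simp [huv, h1, h2, h3, h4', hxy]) hnd'
  exact ⟨2, g, Prod.ext (smul_mkS e1 e2) (smul_mkS e3 e4)⟩

theorem pp_le : orbs (G := G) (X2 α × X2 α) ≤ 7 := by
  obtain ⟨a, b, c, d, hnd⟩ := exists_base h4 hn
  have hnd' := hnd
  simp only [List.nodup_cons, List.mem_cons, List.not_mem_nil, or_false, not_or] at hnd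
  obtain ⟨⟨hab, hac, had⟩, ⟨hbc, hbd⟩, hcd, -⟩ := hnd
  refine card_orbits_le ![(mkP hab, mkP hab), (mkP hab, mkP (Ne.symm hab)), (mkP hab, mkP hac),
    (mkP hab, mkP (Ne.symm hac)), (mkP hab, mkP hbc), (mkP hab, mkP (Ne.symm hbc)), (mkP hab, mkP hcd)] fun ⟨s, t⟩ => ?_
  obtain ⟨u, v, huv, rfl⟩ := exists_mkP s
  obtain ⟨x, y, hxy, rfl⟩ := exists_mkP t
  by_cases h1 : u = x
  · subst h1
    by_cases h : v = y
    · subst h
      obtain ⟨g, e1, e2⟩ := move2 h4 hn huv hab
      exact ⟨0, g, Prod.ext (smul_mkP e1 e2) (smul_mkP e1 e2)⟩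
    · obtain ⟨g, e1, e2, e3⟩ := move3 h4 hn huv hxy h hab hac hbc
      exact ⟨2, g, Prod.ext (smul_mkP e1 e2) (smul_mkP e1 e3)⟩
  by_cases h2 : u = y
  · subst h2
    by_cases h : v = x
    · subst h
      obtain ⟨g, e1, e2⟩ := move2 h4 hn huv hab
      exact ⟨1, g, Prod.ext (smul_mkP e1 e2) (smul_mkP e2 e1)⟩
    · obtain ⟨g, e1, e2, e3⟩ := move3 h4 hn huv hxy.symm h hab hac hbc
      exact ⟨3, g, Prod.ext (smul_mkP e1 e2) (smul_mkP e3 e1)⟩
  by_cases h3 : v = x
  · subst h3
    obtain ⟨g, e1, e2, e3⟩ := move3 h4 hn huv h2 hxy hab hac hbc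
    exact ⟨4, g, Prod.ext (smul_mkP e1 e2) (smul_mkP e2 e3)⟩
  by_cases h4' : v = y
  · subst h4'
    obtain ⟨g, e1, e2, e3⟩ := move3 h4 hn huv h1 hxy.symm hab hac hbc
    exact ⟨5, g, Prod.ext (smul_mkP e1 e2) (smul_mkP e3 e2)⟩
  obtain ⟨g, e1, e2, e3, e4⟩ := h4 u v x y a b c d (by simp [huv, h1, h2, h3, h4', hxy]) hnd'
  exact ⟨6, g, Prod.ext (smul_mkP e1 e2) (smul_mkP e3 e4)⟩

theorem ps_ge : 4 ≤ orbs (G := G) (X2 α × S2 α) := by
  obtain ⟨a, b, c, d, hnd⟩ := exists_base h4 hn
  simp only [List.nodup_cons, List.mem_cons, List.not_mem_nil, or_false, not_or] at hnd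
  obtain ⟨⟨hab, hac, had⟩, ⟨hbc, hbd⟩, hcd, -⟩ := hnd
  refine le_card_orbits ![(mkP hab, mkS hab), (mkP hab, mkS hac), (mkP hab, mkS hbc), (mkP hab, mkS hcd)]
    (fun z => (if z.1 0 ∈ (z.2 : Finset α) then 2 else 0) + if z.1 1 ∈ (z.2 : Finset α) then 1 else 0) ?_ ?_
  · intro g z
    simp [Set.powersetCard.coe_smul]
  · intro i j e
    fin_cases i <;> fin_cases j <;> simp_all [mkS, Ne.symm hab, Ne.symm hbc]

theorem pf_ge : 3 ≤ orbs (G := G) (X2 α × α) := by
  obtain ⟨a, b, c, d, hnd⟩ := exists_base h4 hn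
  simp only [List.nodup_cons, List.mem_cons, List.not_mem_nil, or_false, not_or] at hnd
  obtain ⟨⟨hab, hac, had⟩, ⟨hbc, hbd⟩, hcd, -⟩ := hnd
  refine le_card_orbits ![(mkP hab, a), (mkP hab, b), (mkP hab, c)]
    (fun z => if z.1 0 = z.2 then 2 else if z.1 1 = z.2 then 1 else 0) ?_ ?_
  · intro g z
    simp
  · intro i j e
    fin_cases i <;> fin_cases j <;> simp_all [Ne.symm hab, Ne.symm hbc]

theorem p_le : orbs (G := G) (X2 α) ≤ 1 := by
  obtain ⟨a, b, c, d, hnd⟩ := exists_base h4 hn
  simp only [List.nodup_cons, List.mem_cons, List.not_mem_nil, or_false, not_or] at hnd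
  refine card_orbits_le ![mkP hnd.1.1] fun s => ?_
  obtain ⟨u, v, huv, rfl⟩ := exists_mkP s
  obtain ⟨g, e1, e2⟩ := move2 h4 hn huv hnd.1.1
  exact ⟨0, g, smul_mkP e1 e2⟩

theorem orbs_pos : 1 ≤ orbs (G := G) α ∧ 1 ≤ orbs (G := G) (S2 α) := by
  obtain ⟨a, b, c, d, hnd⟩ := exists_base h4 hn
  simp only [List.nodup_cons, List.mem_cons, List.not_mem_nil, or_false, not_or] at hnd
  exact ⟨le_card_orbits ![a] (fun _ => 0) (fun _ _ => rfl) (fun i j _ => Subsingleton.elim i j),
    le_card_orbits ![mkS hnd.1.1] (fun _ => 0) (fun _ _ => rfl) (fun i j _ => Subsingleton.elim i j)⟩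

end bounds

variable (G α) in
/-- The reduced permutation character. -/
noncomputable def stdChar : G → ℂ := permChar G α - fun _ => 1

variable (G α) in
/-- Unordered pairs minus points. -/
noncomputable def symChar : G → ℂ := permChar G (S2 α) - permChar G α

variable (G α) in
/-- The exterior square of the reduced permutation character. -/
noncomputable def altChar : G → ℂ :=
  permChar G (X2 α) - permChar G (S2 α) - permChar G α + fun _ => 1

theorem gen_perm (X : Type v) [MulAction G X] [Finite X] : IsGeneralizedCharacter G (permChar G X) :=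
  isGeneralizedCharacter_of_isCharacter (isCharacter_permChar X)

theorem gen_one : IsGeneralizedCharacter G fun _ : G => (1 : ℂ) :=
  isGeneralizedCharacter_of_isCharacter (isCharacter_of_isIrr isIrrCharacter_one)

theorem inner_one_one : classInner (fun _ : G => (1 : ℂ)) (fun _ => 1) = 1 := by
  simp [classInner, Nat.card_eq_fintype_card]

theorem inner_one (X : Type v) [MulAction G X] [Finite X] :
    classInner (fun _ : G => (1 : ℂ)) (permChar G X) = (orbs (G := G) X : ℂ) := by
  rw [← classInner_conj, classInner_permChar_one, map_natCast]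

theorem permChar_one (X : Type v) [MulAction G X] [Finite X] : permChar G X (1 : G) = (Nat.card X : ℂ) := by
  rw [permChar, Nat.card_congr (Equiv.subtypeUnivEquiv fun x => show x ∈ fixedBy X (1 : G) from one_smul G x)]

theorem permChar_S2_one : permChar G (S2 α) (1 : G) = ((Fintype.card α).choose 2 : ℂ) := by
  rw [permChar_one, Set.powersetCard.card, Nat.card_eq_fintype_card]

variable (h4 : Four G α) (hn : 7 ≤ Fintype.card α)
include h4 hn

theorem isIrr_std : IsIrrCharacter G (stdChar G α) := by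
  have h := ff h4 (by omega)
  have h1 := (orbs_pos h4 (by omega)).1
  refine isIrr_of_norm_le_one (isGeneralizedCharacter_sub (gen_perm _) gen_one)
    (N := (orbs (G := G) (α × α) : ℤ) - orbs (G := G) α - orbs (G := G) α + 1) ?_ (by omega)
    (d := (Fintype.card α : ℝ) - 1) ?_ (by
      have : (7 : ℝ) ≤ (Fintype.card α : ℝ) := by exact_mod_cast hn
      linarith)
  · simp only [stdChar, classInner_sub_left, classInner_sub_right, classInner_permChar,
      classInner_permChar_one, inner_one, inner_one_one]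
    push_cast
    ring
  · simp [stdChar, permChar_one, Nat.card_eq_fintype_card]

theorem isIrr_sym : IsIrrCharacter G (symChar G α) := by
  have h := ff h4 (by omega)
  have h1 := ss_le h4 (by omega)
  have h2 := sf_ge h4 (by omega)
  refine isIrr_of_norm_le_one (isGeneralizedCharacter_sub (gen_perm _) (gen_perm _))
    (N := (orbs (G := G) (S2 α × S2 α) : ℤ) - orbs (G := G) (S2 α × α) - orbs (G := G) (S2 α × α) +
      orbs (G := G) (α × α)) ?_ (by omega)
    (d := ((Fintype.card α).choose 2 : ℝ) - Fintype.card α) ?_ (by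
      have : Fintype.card α < (Fintype.card α).choose 2 := by
        rw [Nat.choose_two_right, Nat.lt_div_iff_mul_lt' (Nat.even_mul_pred_self _).two_dvd]
        calc 2 * Fintype.card α = Fintype.card α * 2 := mul_comm _ _
          _ < _ := Nat.mul_lt_mul_of_pos_left (by omega) (by omega)
      have : (Fintype.card α : ℝ) < ((Fintype.card α).choose 2 : ℝ) := by exact_mod_cast this
      linarith)
  · simp only [symChar, classInner_sub_left, classInner_sub_right, inner_comm (G := G) (S2 α) α,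
      classInner_permChar (G := G) (S2 α) (S2 α), classInner_permChar (G := G) (S2 α) α,
      classInner_permChar (G := G) α α]
    push_cast
    ring
  · simp [symChar, permChar_S2_one, permChar_one α, Nat.card_eq_fintype_card]

theorem isIrr_alt : IsIrrCharacter G (altChar G α) := by
  have a1 := ff h4 (by omega)
  have a2 := ss_le h4 (by omega)
  have a3 := pp_le h4 (by omega)
  have a4 := sf_le h4 (by omega)
  have a5 := p_le h4 (by omega)
  have a6 := ps_ge h4 (by omega)
  have a7 := pf_ge h4 (by omega)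
  obtain ⟨a8, a9⟩ := orbs_pos h4 (by omega)
  refine isIrr_of_norm_le_one
    (isGeneralizedCharacter_add (isGeneralizedCharacter_sub (isGeneralizedCharacter_sub (gen_perm _) (gen_perm _))
      (gen_perm _)) gen_one)
    (N := (orbs (G := G) (X2 α × X2 α) : ℤ) + orbs (G := G) (S2 α × S2 α) + orbs (G := G) (α × α) + 1
      - 2 * orbs (G := G) (X2 α × S2 α) - 2 * orbs (G := G) (X2 α × α) + 2 * orbs (G := G) (X2 α)
      + 2 * orbs (G := G) (S2 α × α) - 2 * orbs (G := G) (S2 α) - 2 * orbs (G := G) α) ?_ (by omega)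
    (d := (((Fintype.card α : ℕ) - 1).choose 2 : ℕ)) ?_ (by
      exact_mod_cast Nat.choose_pos (by omega))
  · simp only [altChar, classInner_sub_left, classInner_sub_right, classInner_add_left, classInner_add_right,
      inner_comm (G := G) (S2 α) α, inner_comm (G := G) (X2 α) α, inner_comm (G := G) (X2 α) (S2 α),
      classInner_permChar_one, inner_one, inner_one_one,
      classInner_permChar (G := G) (X2 α) (X2 α), classInner_permChar (G := G) (X2 α) (S2 α),
      classInner_permChar (G := G) (X2 α) α,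
      classInner_permChar (G := G) (S2 α) (S2 α), classInner_permChar (G := G) (S2 α) α,
      classInner_permChar (G := G) α α]
    push_cast
    ring
  · obtain ⟨m, hm⟩ : ∃ m, Fintype.card α = m + 1 := ⟨_, (Nat.succ_pred (by omega)).symm⟩
    have e : (((m + 1).choose 2 : ℕ) : ℂ) = (m : ℂ) + (m.choose 2 : ℕ) := by
      rw [Nat.choose_succ_succ, Nat.choose_one_right]; push_cast; ring
    have e2 : (m.choose 2 : ℂ) * 2 = (m : ℂ) * (m - 1) := by rw [Nat.cast_choose_two]; ring
    simp [altChar, permChar_S2_one, permChar_one α, permChar_one (X2 α), Nat.card_eq_fintype_card,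
      Fintype.card_embedding_eq, hm, Nat.descFactorial]
    rw [e]
    linear_combination (-1 : ℂ) * e2

end CfsgLib.Char.PairVanish
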