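import Cfsg.Agent.Lib.Char.PairVanish.Values
import Mathlib.GroupTheory.GroupAction.MultipleTransitivity

/-!
Characters of alternating groups vanishing on 2-elements and on elements of order three, extending to
the symmetric group.
-/

set_option autoImplicit false
set_option linter.unusedSectionVars false

namespace CfsgLib.Char.PairVanish

open MulAction Cfsg Equiv

universe v

variable {α : Type v} [Fintype α] [DecidableEq α]

theorem four_perm : Four (Perm α) α :=
  four_of (Equiv.Perm.isMultiplyPretransitive α 4)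

theorem four_alt (hn : 7 ≤ Fintype.card α) : Four (alternatingGroup α) α := by
  haveI := alternatingGroup.isMultiplyPretransitive α
  exact four_of (MulAction.isMultiplyPretransitive_of_le (n := Nat.card α - 2)
    (by rw [Nat.card_eq_fintype_card]; omega) (by omega))

theorem fix_coe (x : alternatingGroup α) : permChar (alternatingGroup α) α x = permChar (Perm α) α x := rfl

theorem extend_std (hn : 7 ≤ Fintype.card α) {x : alternatingGroup α}
    (h : stdChar (alternatingGroup α) α x = 0) : ∃ χ : IrrCharacter (alternatingGroup α),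
      (χ : alternatingGroup α → ℂ) x = 0 ∧ ∃ ψ : IrrCharacter (Perm α),
        ∀ y : alternatingGroup α, (ψ : Perm α → ℂ) y = (χ : alternatingGroup α → ℂ) y := by
  classical
  exact ⟨⟨_, isIrr_std (four_alt hn) hn⟩, h, ⟨_, isIrr_std four_perm hn⟩, fun y => rfl⟩

theorem extend_sym (hn : 7 ≤ Fintype.card α) {x : alternatingGroup α}
    (h : symChar (alternatingGroup α) α x = 0) : ∃ χ : IrrCharacter (alternatingGroup α),
      (χ : alternatingGroup α → ℂ) x = 0 ∧ ∃ ψ : IrrCharacter (Perm α),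
        ∀ y : alternatingGroup α, (ψ : Perm α → ℂ) y = (χ : alternatingGroup α → ℂ) y := by
  classical
  exact ⟨⟨_, isIrr_sym (four_alt hn) hn⟩, h, ⟨_, isIrr_sym four_perm hn⟩, fun y => rfl⟩

theorem extend_alt (hn : 7 ≤ Fintype.card α) {x : alternatingGroup α}
    (h : altChar (alternatingGroup α) α x = 0) : ∃ χ : IrrCharacter (alternatingGroup α),
      (χ : alternatingGroup α → ℂ) x = 0 ∧ ∃ ψ : IrrCharacter (Perm α),
        ∀ y : alternatingGroup α, (ψ : Perm α → ℂ) y = (χ : alternatingGroup α → ℂ) y := by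
  classical
  exact ⟨⟨_, isIrr_alt (four_alt hn) hn⟩, h, ⟨_, isIrr_alt four_perm hn⟩, fun y => rfl⟩

theorem two_elements (hn : 7 ≤ Fintype.card α) : ∃ χ : IrrCharacter (alternatingGroup α),
    (∃ x : alternatingGroup α, (∃ j : ℕ, orderOf x = 2 ^ j) ∧ (χ : alternatingGroup α → ℂ) x = 0) ∧
      ∃ ψ : IrrCharacter (Perm α), ∀ y : alternatingGroup α, (ψ : Perm α → ℂ) y = (χ : alternatingGroup α → ℂ) y := by
  have conv : ∀ {x : alternatingGroup α}, orderOf x ∣ 8 → ∃ j : ℕ, orderOf x = 2 ^ j := fun h => by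
    obtain ⟨j, -, hj⟩ := (Nat.dvd_prime_pow Nat.prime_two).1 (show _ ∣ 2 ^ 3 from h)
    exact ⟨j, hj⟩
  rcases Nat.even_or_odd (Fintype.card α) with he | ho
  · obtain ⟨t, ht⟩ := he
    rcases Nat.even_or_odd t with ⟨s, hs⟩ | ⟨s, hs⟩
    · obtain ⟨m, h1, h2, h3, h4, h5⟩ := exists_fours (n := s) (by omega)
      obtain ⟨g, hg, hf, hno, -⟩ := exists_even m (α := α) (by omega) h2 h3 h4
      obtain ⟨χ, hχ, hψ⟩ := extend_sym hn (sym_zero (g := g) (by omega) (hno h5))
      exact ⟨χ, ⟨g, conv hg, hχ⟩, hψ⟩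
    · obtain ⟨m, h1, h2, h3, h4, h5⟩ := exists_fours (n := s) (by omega)
      obtain ⟨g, hg, hf, hno, -⟩ := exists_even m (α := α) (by omega) h2 h3 h4
      obtain ⟨χ, hχ, hψ⟩ := extend_alt hn (alt_zero (g := g) (by omega) (hno h5))
      exact ⟨χ, ⟨g, conv hg, hχ⟩, hψ⟩
  · obtain ⟨k, hk⟩ := ho
    obtain ⟨m, h1, h2, h3, h4⟩ := exists_twos (k := k) (by omega)
    obtain ⟨g, hg, hf, -, -⟩ := exists_even m (α := α) (by omega) h2 h3 h4
    obtain ⟨χ, hχ, hψ⟩ := extend_std hn (std_zero (g := g) (by omega))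
    exact ⟨χ, ⟨g, conv hg, hχ⟩, hψ⟩

theorem three_elements (hn : 7 ≤ Fintype.card α) : ∃ χ : IrrCharacter (alternatingGroup α),
    (∃ y : alternatingGroup α, orderOf y = 3 ∧ (χ : alternatingGroup α → ℂ) y = 0) ∧
      ∃ ψ : IrrCharacter (Perm α), ∀ y : alternatingGroup α, (ψ : Perm α → ℂ) y = (χ : alternatingGroup α → ℂ) y := by
  set c := Fintype.card α / 3 with hc
  have hm : ∀ a ∈ Multiset.replicate c 3, a = 3 := fun a ha => Multiset.eq_of_mem_replicate ha
  have hsum : (Multiset.replicate c 3).sum = c * 3 := by simp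
  obtain ⟨g, hg, hf, hno, hl⟩ := exists_even (Multiset.replicate c 3) (α := α) (q := 3) (by omega)
    (fun a ha => by rw [hm a ha]; norm_num) ⟨2 * c, by simp; ring⟩ (fun a ha => by rw [hm a ha])
  have h3 : orderOf g = 3 := by
    refine Nat.dvd_antisymm hg ?_
    rw [hl]
    exact Multiset.dvd_lcm (Multiset.mem_replicate.2 ⟨by omega, rfl⟩)
  have hno' := hno fun h => by simpa using hm 2 h
  rw [hsum] at hf
  obtain h | h | h : Fintype.card α % 3 = 0 ∨ Fintype.card α % 3 = 1 ∨ Fintype.card α % 3 = 2 := by omega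
  · obtain ⟨χ, hχ, hψ⟩ := extend_sym hn (sym_zero (g := g) (by omega) hno')
    exact ⟨χ, ⟨g, h3, hχ⟩, hψ⟩
  · obtain ⟨χ, hχ, hψ⟩ := extend_std hn (std_zero (g := g) (by omega))
    exact ⟨χ, ⟨g, h3, hχ⟩, hψ⟩
  · obtain ⟨χ, hχ, hψ⟩ := extend_alt hn (alt_zero (g := g) (by omega) hno')
    exact ⟨χ, ⟨g, h3, hχ⟩, hψ⟩

end CfsgLib.Char.PairVanish
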