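import Cfsg.Agent.Lib.Char.Perm
import Cfsg.Agent.Lib.Char.Virtual
import Mathlib.GroupTheory.GroupAction.SubMulAction.Combination
import Mathlib.GroupTheory.GroupAction.MultipleTransitivity

/-!
Orbit bounds for a 4-transitive group on points, ordered pairs and unordered pairs.
-/

set_option autoImplicit false
set_option linter.unusedSectionVars false

namespace CfsgLib.Char.PairVanish

open MulAction Cfsg

universe u v w

variable {G : Type u} [Group G]

theorem classInner_permChar [Fintype G] (X : Type v) [MulAction G X] [Finite X] (Y : Type w) [MulAction G Y]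
    [Finite Y] : classInner (permChar G X) (permChar G Y) = (Nat.card (orbitRel.Quotient G (X × Y)) : ℂ) := by
  rw [← classInner_permChar_one (G := G) (X × Y), classInner, classInner]
  congr 1
  refine Finset.sum_congr rfl fun g _ => ?_
  rw [conj_permChar, map_one, mul_one, permChar, permChar, ← Nat.cast_mul, ← Nat.card_prod]
  congr 1
  exact Nat.card_congr
    { toFun := fun p => ⟨(p.1.1, p.2.1), Prod.ext p.1.2 p.2.2⟩
      invFun := fun p => (⟨p.1.1, congrArg Prod.fst p.2⟩, ⟨p.1.2, congrArg Prod.snd p.2⟩)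
      left_inv := fun p => rfl
      right_inv := fun p => rfl }

theorem card_orbits_le {Z : Type v} [MulAction G Z] {m : ℕ} (r : Fin m → Z)
    (h : ∀ z, ∃ i, ∃ g : G, g • z = r i) : Nat.card (orbitRel.Quotient G Z) ≤ m := by
  have hs : Function.Surjective fun i : Fin m => (Quotient.mk _ (r i) : orbitRel.Quotient G Z) := by
    intro q
    induction q using Quotient.inductionOn with
    | h z =>
      obtain ⟨i, g, hg⟩ := h z
      exact ⟨i, Quotient.sound ⟨g, hg⟩⟩
  simpa using Nat.card_le_card_of_surjective _ hs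

theorem le_card_orbits {Z : Type v} [MulAction G Z] [Finite Z] {m : ℕ} (r : Fin m → Z) (f : Z → ℕ)
    (hf : ∀ (g : G) z, f (g • z) = f z) (hr : Function.Injective (f ∘ r)) :
    m ≤ Nat.card (orbitRel.Quotient G Z) := by
  have hi : Function.Injective fun i : Fin m => (Quotient.mk _ (r i) : orbitRel.Quotient G Z) := by
    intro i j e
    obtain ⟨g, hg⟩ := Quotient.exact e
    exact hr (show f (r i) = f (r j) by rw [← hg, hf])
  simpa using Nat.card_le_card_of_injective _ hi

theorem card_orbits_congr {Z : Type v} [MulAction G Z] {Z' : Type w} [MulAction G Z'] (e : Z ≃ Z')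
    (he : ∀ (g : G) z, e (g • z) = g • e z) :
    Nat.card (orbitRel.Quotient G Z) = Nat.card (orbitRel.Quotient G Z') := by
  refine Nat.card_congr (Quotient.congr e fun a b => ?_)
  exact ⟨fun ⟨g, hg⟩ => ⟨g, by show g • e b = e a; rw [← he]; exact congrArg e hg⟩,
    fun ⟨g, hg⟩ => ⟨g, e.injective (by rw [he]; exact hg)⟩⟩

variable {α : Type v} [Fintype α] [DecidableEq α] [MulAction G α]

/-- The ordered pairs. -/
abbrev X2 (α : Type v) := Fin 2 ↪ α

/-- The unordered pairs. -/
abbrev S2 (α : Type v) := Set.powersetCard α 2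

/-- An ordered pair. -/
def mkP {a b : α} (h : a ≠ b) : X2 α :=
  ⟨![a, b], fun i j e => by fin_cases i <;> fin_cases j <;> simp_all⟩

/-- An unordered pair. -/
def mkS {a b : α} (h : a ≠ b) : S2 α := ⟨{a, b}, Finset.card_pair h⟩

@[simp] theorem mkP_zero {a b : α} (h : a ≠ b) : mkP h 0 = a := rfl

@[simp] theorem mkP_one {a b : α} (h : a ≠ b) : mkP h 1 = b := rfl

theorem smul_mkP {a b c d : α} {g : G} (h1 : g • a = c) (h2 : g • b = d) (h : a ≠ b := by assumption) :
    g • mkP h = mkP (a := c) (b := d)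
      (fun e => h (smul_left_cancel g (h1.trans (e.trans h2.symm)))) := by
  ext i
  fin_cases i
  · exact h1
  · exact h2

theorem smul_mkS {a b c d : α} {g : G} (h1 : g • a = c) (h2 : g • b = d) (h : a ≠ b := by assumption) :
    g • mkS h = mkS (a := c) (b := d)
      (fun e => h (smul_left_cancel g (h1.trans (e.trans h2.symm)))) := Subtype.ext (by
  simp [mkS, Set.powersetCard.coe_smul, Finset.smul_finset_insert, h1, h2])

theorem exists_mkP (p : X2 α) : ∃ (a b : α) (h : a ≠ b), p = mkP h :=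
  ⟨p 0, p 1, fun e => by simpa using p.injective e, by ext i; fin_cases i <;> rfl⟩

theorem exists_mkS (s : S2 α) : ∃ (a b : α) (h : a ≠ b), s = mkS h := by
  obtain ⟨a, b, h, e⟩ := Finset.card_eq_two.1 s.2
  exact ⟨a, b, h, Subtype.ext e⟩

theorem mkS_comm {a b : α} (h : a ≠ b) : mkS h = mkS h.symm := Subtype.ext (Finset.pair_comm a b)

variable (G α) in
/-- Four points can be moved to any four points. -/
def Four : Prop := ∀ a b c d a' b' c' d' : α, [a, b, c, d].Nodup → [a', b', c', d'].Nodup →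
  ∃ g : G, g • a = a' ∧ g • b = b' ∧ g • c = c' ∧ g • d = d'

theorem four_of (h : IsMultiplyPretransitive G α 4) : Four G α := by
  intro a b c d a' b' c' d' hn hn'
  obtain ⟨g, hg⟩ := h.exists_smul_eq ⟨[a, b, c, d].get, hn.injective_get⟩ ⟨[a', b', c', d'].get, hn'.injective_get⟩
  exact ⟨g, DFunLike.congr_fun hg ⟨0, by simp⟩, DFunLike.congr_fun hg ⟨1, by simp⟩,
    DFunLike.congr_fun hg ⟨2, by simp⟩, DFunLike.congr_fun hg ⟨3, by simp⟩⟩

theorem exists_fourth (h5 : 4 ≤ Fintype.card α) (a b c : α) : ∃ d, d ≠ a ∧ d ≠ b ∧ d ≠ c := by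
  obtain ⟨d, -, hd⟩ := Finset.exists_mem_notMem_of_card_lt_card (s := ({a, b, c} : Finset α))
    (t := Finset.univ) (lt_of_le_of_lt Finset.card_le_three (by rw [Finset.card_univ]; omega))
  simp only [Finset.mem_insert, Finset.mem_singleton, not_or] at hd
  exact ⟨d, hd.1, hd.2.1, hd.2.2⟩

variable (h4 : Four G α) (hn : 4 ≤ Fintype.card α)
include h4 hn

theorem move3 {a b c a' b' c' : α} (hab : a ≠ b) (hac : a ≠ c) (hbc : b ≠ c) (hab' : a' ≠ b')
    (hac' : a' ≠ c') (hbc' : b' ≠ c') : ∃ g : G, g • a = a' ∧ g • b = b' ∧ g • c = c' := by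
  obtain ⟨d, hda, hdb, hdc⟩ := exists_fourth hn a b c
  obtain ⟨d', hda', hdb', hdc'⟩ := exists_fourth hn a' b' c'
  obtain ⟨g, h1, h2, h3, -⟩ := h4 a b c d a' b' c' d' (by simp [*, Ne.symm hda, Ne.symm hdb, Ne.symm hdc])
    (by simp [*, Ne.symm hda', Ne.symm hdb', Ne.symm hdc'])
  exact ⟨g, h1, h2, h3⟩

theorem move2 {a b a' b' : α} (hab : a ≠ b) (hab' : a' ≠ b') : ∃ g : G, g • a = a' ∧ g • b = b' := by
  obtain ⟨c, hca, hcb, -⟩ := exists_fourth hn a b a
  obtain ⟨c', hca', hcb', -⟩ := exists_fourth hn a' b' a'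
  obtain ⟨g, h1, h2, -⟩ := move3 h4 hn hab hca.symm hcb.symm hab' hca'.symm hcb'.symm
  exact ⟨g, h1, h2⟩

end CfsgLib.Char.PairVanish
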