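import Cfsg.Agent.Lib.Char.PairVanish.Irred
import Mathlib.GroupTheory.Perm.Cycle.Type

/-!
Values at elements without 2-cycles, and elements with a prescribed number of fixed points.
-/

set_option autoImplicit false
set_option linter.unusedSectionVars false

namespace CfsgLib.Char.PairVanish

open MulAction Cfsg

universe u v

section values

variable {G : Type u} [Group G] {α : Type v} [Fintype α] [DecidableEq α] [MulAction G α]

theorem permChar_X2 (g : G) : permChar G (X2 α) g =
    (Nat.card (fixedBy α g) : ℂ) * ((Nat.card (fixedBy α g) : ℂ) - 1) := by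
  have : Fintype (fixedBy α g) := Fintype.ofFinite _
  let e : fixedBy (X2 α) g ≃ (Fin 2 ↪ fixedBy α g) :=
    { toFun := fun p => ⟨fun i => ⟨p.1 i, DFunLike.congr_fun p.2 i⟩, fun i j h => p.1.injective (congrArg Subtype.val h)⟩
      invFun := fun p => ⟨p.trans (Function.Embedding.subtype _), DFunLike.ext _ _ fun i => (p i).2⟩
      left_inv := fun p => rfl
      right_inv := fun p => rfl }
  rw [permChar, Nat.card_congr e, Nat.card_eq_fintype_card, Fintype.card_embedding_eq, Fintype.card_fin,
    Nat.card_eq_fintype_card]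
  rcases Fintype.card (fixedBy α g) with _ | m
  · simp [Nat.descFactorial]
  · simp [Nat.descFactorial]; ring

theorem permChar_S2 {g : G} (h2 : ∀ a : α, g • g • a = a → g • a = a) :
    permChar G (S2 α) g = ((Nat.card (fixedBy α g)).choose 2 : ℂ) := by
  have key : ∀ s : S2 α, s ∈ fixedBy (S2 α) g ↔ (s : Finset α) ⊆ (fixedBy α g).toFinite.toFinset := by
    intro s
    obtain ⟨a, b, hab, rfl⟩ := exists_mkS s
    constructor
    · intro h
      have h' : ({g • a, g • b} : Finset α) = {a, b} := by
        have := congrArg (fun t : S2 α => (t : Finset α)) (h : g • mkS hab = mkS hab)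
        simpa [mkS, Set.powersetCard.coe_smul, Finset.smul_finset_insert] using this
      have ha : g • a ∈ ({a, b} : Finset α) := h' ▸ Finset.mem_insert_self _ _
      have hb : g • b ∈ ({a, b} : Finset α) := h' ▸ Finset.mem_insert_of_mem (Finset.mem_singleton_self _)
      simp only [Finset.mem_insert, Finset.mem_singleton] at ha hb
      have hb' : g • b = b ∨ g • b = a := hb.symm
      have hfa : g • a = a := by
        rcases ha with ha | ha
        · exact ha
        · refine h2 a ?_
          rw [ha]
          rcases hb' with hb' | hb'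
          · exact absurd (smul_left_cancel g (ha.trans hb'.symm)) hab
          · exact hb'
      have hfb : g • b = b := by
        rcases hb' with hb' | hb'
        · exact hb'
        · exact absurd (smul_left_cancel g (hfa.trans hb'.symm)) hab
      intro x hx
      simp only [mkS, Finset.mem_insert, Finset.mem_singleton] at hx
      rw [Set.Finite.mem_toFinset]
      rcases hx with rfl | rfl
      · exact hfa
      · exact hfb
    · intro h
      have ha := h (show a ∈ ((mkS hab : S2 α) : Finset α) from Finset.mem_insert_self _ _)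
      have hb := h (show b ∈ ((mkS hab : S2 α) : Finset α) from
        Finset.mem_insert_of_mem (Finset.mem_singleton_self _))
      rw [Set.Finite.mem_toFinset] at ha hb
      exact smul_mkS ha hb hab
  let e : fixedBy (S2 α) g ≃ {s : Finset α // s ∈ (fixedBy α g).toFinite.toFinset.powersetCard 2} :=
    { toFun := fun s => ⟨s.1.1, Finset.mem_powersetCard.2 ⟨(key s.1).1 s.2, s.1.2⟩⟩
      invFun := fun s => ⟨⟨s.1, (Finset.mem_powersetCard.1 s.2).2⟩, (key _).2 (Finset.mem_powersetCard.1 s.2).1⟩
      left_inv := fun s => rfl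
      right_inv := fun s => rfl }
  rw [permChar, Nat.card_congr e, Nat.card_eq_fintype_card, Fintype.card_coe, Finset.card_powersetCard,
    ← Set.ncard_eq_toFinset_card, Nat.card_coe_set_eq]

theorem std_zero {g : G} (h : Nat.card (fixedBy α g) = 1) : stdChar G α g = 0 := by
  simp only [stdChar, Pi.sub_apply, permChar, h]
  norm_num

theorem sym_zero {g : G} (h : Nat.card (fixedBy α g) = 0) (h2 : ∀ a : α, g • g • a = a → g • a = a) :
    symChar G α g = 0 := by
  simp only [symChar, Pi.sub_apply, permChar_S2 h2]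
  rw [permChar, h]
  norm_num

theorem alt_zero {g : G} (h : Nat.card (fixedBy α g) = 2) (h2 : ∀ a : α, g • g • a = a → g • a = a) :
    altChar G α g = 0 := by
  simp only [altChar, Pi.sub_apply, Pi.add_apply, permChar_S2 h2, permChar_X2]
  rw [permChar, h]
  norm_num

end values

section elements

open Equiv

variable {α : Type v} [Fintype α] [DecidableEq α]

theorem exists_even (m : Multiset ℕ) {q : ℕ} (hs : m.sum ≤ Fintype.card α) (h2 : ∀ a ∈ m, 2 ≤ a)
    (hev : Even (m.sum + Multiset.card m)) (hq : ∀ a ∈ m, a ∣ q) :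
    ∃ g : alternatingGroup α, orderOf g ∣ q ∧ Nat.card (fixedBy α g) = Fintype.card α - m.sum ∧
      (2 ∉ m → ∀ a : α, g • g • a = a → g • a = a) ∧ orderOf g = m.lcm := by
  obtain ⟨g, hg⟩ := (Equiv.Perm.exists_with_cycleType_iff (α := α)).2 ⟨hs, h2⟩
  have hsgn : g ∈ alternatingGroup α := by
    rw [Perm.mem_alternatingGroup, Perm.sign_of_cycleType, hg]
    exact hev.neg_one_pow
  have hord : orderOf (⟨g, hsgn⟩ : alternatingGroup α) = m.lcm := by
    rw [← Subgroup.orderOf_coe, ← Perm.lcm_cycleType, hg]
  refine ⟨⟨g, hsgn⟩, hord ▸ Multiset.lcm_dvd.2 hq, ?_, fun hn a ha => ?_, hord⟩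
  · rw [← hg, Perm.sum_cycleType, ← Finset.card_compl, ← Nat.card_eq_finsetCard]
    exact Nat.card_congr (Equiv.subtypeEquivRight fun x => by
      rw [MulAction.mem_fixedBy, Finset.mem_compl, Perm.mem_support, not_not]; rfl)
  · by_contra hne
    change g a ≠ a at hne
    change g (g a) = a at ha
    have hc := g.isCycle_cycleOf hne
    have hmem : g.cycleOf a ∈ g.cycleFactorsFinset :=
      Perm.cycleOf_mem_cycleFactorsFinset_iff.2 (Perm.mem_support.2 hne)
    have h1 : g.cycleOf a a = g a := Perm.cycleOf_apply_self g a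
    have h3 : g.cycleOf a (g a) = g (g a) := (Perm.SameCycle.cycleOf_apply (Perm.sameCycle_apply_right.2
      (Perm.SameCycle.refl g a)))
    have h4 : g.cycleOf a ^ 2 = 1 := hc.pow_eq_one_iff.2 ⟨a, by rw [h1]; exact hne, by
      rw [sq, Perm.mul_apply, h1, h3, ha]⟩
    have h5 : (g.cycleOf a).support.card = 2 := by
      rw [← hc.orderOf]
      exact orderOf_eq_prime h4 hc.ne_one
    refine hn (hg ▸ ?_)
    rw [Perm.cycleType_def]
    exact Multiset.mem_map.2 ⟨g.cycleOf a, hmem, h5⟩

/-- A permutation of 2-power order from `m` cycles of length four, up to parity. -/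
theorem exists_fours {n : ℕ} (hn : 2 ≤ n) : ∃ m : Multiset ℕ, m.sum = 4 * n ∧ (∀ a ∈ m, 2 ≤ a) ∧
    Even (m.sum + Multiset.card m) ∧ (∀ a ∈ m, a ∣ 8) ∧ 2 ∉ m := by
  rcases Nat.even_or_odd n with h | h
  · refine ⟨Multiset.replicate n 4, by simp [mul_comm], fun a ha => by rw [Multiset.eq_of_mem_replicate ha]; norm_num,
      ?_, fun a ha => by rw [Multiset.eq_of_mem_replicate ha]; norm_num, fun ha => by
        simpa using Multiset.eq_of_mem_replicate ha⟩
    simp only [Multiset.sum_replicate, Multiset.card_replicate, smul_eq_mul]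
    obtain ⟨t, rfl⟩ := h
    exact ⟨5 * t, by ring⟩
  · obtain ⟨t, rfl⟩ := h
    have hmem : ∀ a ∈ (8 ::ₘ Multiset.replicate (2 * t - 1) 4), a = 8 ∨ a = 4 := fun a ha => by
      rcases Multiset.mem_cons.1 ha with ha | ha
      · exact Or.inl ha
      · exact Or.inr (Multiset.eq_of_mem_replicate ha)
    refine ⟨8 ::ₘ Multiset.replicate (2 * t - 1) 4, ?_, fun a ha => by rcases hmem a ha with rfl | rfl <;> norm_num,
      ?_, fun a ha => by rcases hmem a ha with rfl | rfl <;> norm_num, fun ha => by
        rcases hmem 2 ha with h | h <;> norm_num at h⟩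
    · simp only [Multiset.sum_cons, Multiset.sum_replicate, smul_eq_mul]; omega
    · simp only [Multiset.sum_cons, Multiset.sum_replicate, Multiset.card_cons, Multiset.card_replicate, smul_eq_mul]
      exact ⟨5 * t + 2, by omega⟩

/-- A permutation of 2-power order moving `2 * k` points. -/
theorem exists_twos {k : ℕ} (hk : 2 ≤ k) : ∃ m : Multiset ℕ, m.sum = 2 * k ∧ (∀ a ∈ m, 2 ≤ a) ∧
    Even (m.sum + Multiset.card m) ∧ (∀ a ∈ m, a ∣ 8) := by
  rcases Nat.even_or_odd k with h | h
  · refine ⟨Multiset.replicate k 2, by simp [mul_comm], fun a ha => by rw [Multiset.eq_of_mem_replicate ha],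
      ?_, fun a ha => by rw [Multiset.eq_of_mem_replicate ha]; norm_num⟩
    simp only [Multiset.sum_replicate, Multiset.card_replicate, smul_eq_mul]
    obtain ⟨t, rfl⟩ := h
    exact ⟨3 * t, by ring⟩
  · obtain ⟨t, rfl⟩ := h
    have hmem : ∀ a ∈ (4 ::ₘ Multiset.replicate (2 * t - 1) 2), a = 4 ∨ a = 2 := fun a ha => by
      rcases Multiset.mem_cons.1 ha with ha | ha
      · exact Or.inl ha
      · exact Or.inr (Multiset.eq_of_mem_replicate ha)
    refine ⟨4 ::ₘ Multiset.replicate (2 * t - 1) 2, ?_, fun a ha => by rcases hmem a ha with rfl | rfl <;> norm_num,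
      ?_, fun a ha => by rcases hmem a ha with rfl | rfl <;> norm_num⟩
    · simp only [Multiset.sum_cons, Multiset.sum_replicate, smul_eq_mul]; omega
    · simp only [Multiset.sum_cons, Multiset.sum_replicate, Multiset.card_cons, Multiset.card_replicate, smul_eq_mul]
      exact ⟨3 * t + 1, by omega⟩

end elements

end CfsgLib.Char.PairVanish
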